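import Groth.Agent.NoetherNormInt.Basic
import Mathlib

/-!
Noether normalization adapted to a prime ideal of a polynomial ring.
-/

set_option autoImplicit false
universe u
open MvPolynomial

namespace Groth.Agent.RefinedNN

variable {k : Type u} [Field k]

/-- The ideal generated by the variables from the `r`-th on. -/
noncomputable def tailIdeal (k : Type u) [Field k] (n r : ℕ) : Ideal (MvPolynomial (Fin n) k) :=
  Ideal.span (Set.range fun i : {i : Fin n // r ≤ (i : ℕ)} => X (i : Fin n))

theorem finite_of_isIntegral_X {n : ℕ} {A : Type u} [CommRing A] [Algebra k A]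
    (φ : A →ₐ[k] MvPolynomial (Fin n) k)
    (h : ∀ i, φ.toRingHom.IsIntegralElem (X i)) : φ.toRingHom.Finite := by
  letI := φ.toRingHom.toAlgebra
  haveI : IsScalarTower k A (MvPolynomial (Fin n) k) :=
    IsScalarTower.of_algebraMap_eq fun c => (φ.commutes c).symm
  haveI : Algebra.IsIntegral A (MvPolynomial (Fin n) k) := ⟨fun p => by
    induction p using MvPolynomial.induction_on with
    | C c =>
      rw [← MvPolynomial.algebraMap_eq, IsScalarTower.algebraMap_apply k A (MvPolynomial (Fin n) k)]
      exact isIntegral_algebraMap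
    | add p q hp hq => exact hp.add hq
    | mul_X p i hp => exact hp.mul (h i)⟩
  haveI : Algebra.FiniteType A (MvPolynomial (Fin n) k) := Algebra.FiniteType.of_restrictScalars_finiteType k _ _
  exact Algebra.IsIntegral.finite

theorem step {n : ℕ} (f : MvPolynomial (Fin (n + 1)) k) (q : Ideal (MvPolynomial (Fin (n + 1)) k))
    [q.IsPrime] (fne : f ≠ 0) (fq : f ∈ q) :
    (aeval (Fin.snoc (NoetherNormInt.sub f) f) :
      MvPolynomial (Fin (n + 1)) k →ₐ[k] MvPolynomial (Fin (n + 1)) k).toRingHom.Finite := by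
  classical
  set Φ := (aeval (Fin.snoc (NoetherNormInt.sub f) f) :
      MvPolynomial (Fin (n + 1)) k →ₐ[k] MvPolynomial (Fin (n + 1)) k)
  let ψ : Polynomial (MvPolynomial (Fin n) k) →ₐ[k] MvPolynomial (Fin (n + 1)) k :=
    (NoetherNormInt.T f).symm.toAlgHom.comp (finSuccEquiv k n).symm.toAlgHom
  let u := NoetherNormInt.T_leadingcoeff_isUnit f fne
  let w : MvPolynomial (Fin n) k := u.unit⁻¹.val
  let g := w • finSuccEquiv k n (NoetherNormInt.T f f)
  have hg : g.Monic := Polynomial.monic_of_isUnit_leadingCoeff_inv_smul u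
  have hψg : ψ g = ψ (Polynomial.C w) * f := by
    simp only [g, Polynomial.smul_eq_C_mul, map_mul]
    congr 1
    show (NoetherNormInt.T f).symm ((finSuccEquiv k n).symm _) = f
    rw [AlgEquiv.symm_apply_apply, AlgEquiv.symm_apply_apply]
  have hdeg : 1 ≤ g.natDegree := by
    by_contra h
    have hg1 : g = 1 := by
      rw [Polynomial.eq_C_of_natDegree_eq_zero (by omega : g.natDegree = 0)]
      have : g.coeff 0 = 1 := by
        have := hg.coeff_natDegree
        rwa [show g.natDegree = 0 by omega] at this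
      rw [this, Polynomial.C_1]
    have h1 : ψ g ∈ q := by rw [hψg]; exact q.mul_mem_left _ fq
    rw [hg1, map_one] at h1
    exact Ideal.IsPrime.ne_top inferInstance ((Ideal.eq_top_iff_one q).mpr h1)
  let inc : MvPolynomial (Fin n) k →ₐ[k] MvPolynomial (Fin (n + 1)) k := rename Fin.castSucc
  have hcomp : ∀ b, Φ (inc b) = ψ (Polynomial.C b) := by
    intro b
    have : Φ.comp inc = ψ.comp ((Algebra.ofId (MvPolynomial (Fin n) k) (Polynomial (MvPolynomial (Fin n) k))).restrictScalars k) := by
      refine MvPolynomial.algHom_ext fun i => ?_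
      simp only [Φ, inc, AlgHom.comp_apply, rename_X, aeval_X, Fin.snoc_castSucc]
      show NoetherNormInt.sub f i = (NoetherNormInt.T f).symm ((finSuccEquiv k n).symm (Polynomial.C (X i)))
      rw [← finSuccEquiv_X_succ, AlgEquiv.symm_apply_apply, NoetherNormInt.T_symm_X_succ]
    exact AlgHom.congr_fun this b
  let P : Polynomial (MvPolynomial (Fin (n + 1)) k) :=
    g.map inc.toRingHom - Polynomial.C (inc w * X (Fin.last n))
  have hP : P.Monic := by
    refine (hg.map _).sub_of_left (lt_of_le_of_lt Polynomial.degree_C_le ?_)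
    rw [hg.degree_map, Polynomial.degree_eq_natDegree hg.ne_zero]
    exact_mod_cast hdeg
  have hψX : ψ Polynomial.X = X 0 := by
    show (NoetherNormInt.T f).symm ((finSuccEquiv k n).symm Polynomial.X) = X 0
    rw [← finSuccEquiv_X_zero (R := k) (n := n), AlgEquiv.symm_apply_apply]
    show NoetherNormInt.T1 f (-1) (X 0) = X 0
    simp
  have hψeval : ∀ p : Polynomial (MvPolynomial (Fin n) k),
      Polynomial.eval₂ (Φ.toRingHom.comp inc.toRingHom) (X 0) p = ψ p := fun p => by
    induction p using Polynomial.induction_on' with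
    | add p q hp hq => rw [Polynomial.eval₂_add, hp, hq, map_add]
    | monomial m a =>
      rw [Polynomial.eval₂_monomial, ← Polynomial.C_mul_X_pow_eq_monomial, map_mul, map_pow, hψX]
      congr 1
      exact hcomp a
  have hx0 : Φ.toRingHom.IsIntegralElem (X 0) := by
    refine ⟨P, hP, ?_⟩
    simp only [P, Polynomial.eval₂_sub, Polynomial.eval₂_map, Polynomial.eval₂_C, hψeval, hψg]
    show ψ (Polynomial.C w) * f - Φ (inc w * X (Fin.last n)) = 0
    rw [map_mul, hcomp]
    simp [Φ]
  refine finite_of_isIntegral_X Φ fun i => ?_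
  induction i using Fin.cases with
  | zero => exact hx0
  | succ i =>
    letI := Φ.toRingHom.toAlgebra
    have h : (X i.succ : MvPolynomial (Fin (n + 1)) k) =
        Φ (X (Fin.castSucc i)) + X 0 ^ ((2 + f.totalDegree) ^ (i.succ : ℕ)) := by
      simp [Φ, NoetherNormInt.sub]
    rw [h]
    exact (isIntegral_algebraMap (R := MvPolynomial (Fin (n + 1)) k)
      (x := (X (Fin.castSucc i) : MvPolynomial (Fin (n + 1)) k))).add (IsIntegral.pow (R := MvPolynomial (Fin (n + 1)) k) (x := (X 0 : MvPolynomial (Fin (n + 1)) k)) hx0 _)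

theorem exists_normalization : ∀ (n : ℕ) (q : Ideal (MvPolynomial (Fin n) k)) [q.IsPrime],
    ∃ r : ℕ, r ≤ n ∧ ∃ φ : MvPolynomial (Fin n) k →ₐ[k] MvPolynomial (Fin n) k, φ.toRingHom.Finite ∧
      q.comap φ = tailIdeal k n r := by
  intro n
  induction n with
  | zero =>
    intro q hq
    refine ⟨0, le_rfl, AlgHom.id k _, RingHom.Finite.id _, ?_⟩
    refine le_antisymm (fun a ha => ?_) (Ideal.span_le.mpr (Set.range_subset_iff.mpr fun i => i.1.elim0))
    by_contra hne
    obtain ⟨c, hc⟩ : ∃ c : k, a = C c := ⟨_, eq_C_of_isEmpty a⟩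
    have hc0 : c ≠ 0 := fun h => hne (by rw [hc, h, map_zero]; exact Submodule.zero_mem _)
    exact Ideal.IsPrime.ne_top hq (Ideal.eq_top_of_isUnit_mem q ha (hc ▸ (isUnit_iff_ne_zero.2 hc0).map C))
  | succ n ih =>
    intro q hq
    by_cases hq0 : q = ⊥
    · refine ⟨n + 1, le_rfl, AlgHom.id k _, RingHom.Finite.id _, ?_⟩
      haveI : IsEmpty {i : Fin (n + 1) // n + 1 ≤ (i : ℕ)} := ⟨fun i => absurd i.1.isLt (not_lt.mpr i.2)⟩
      rw [tailIdeal, Set.range_eq_empty, Ideal.span_empty, hq0]
      rfl
    obtain ⟨f, fq, fne⟩ := Submodule.exists_mem_ne_zero_of_ne_bot hq0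
    set Φ := (aeval (Fin.snoc (NoetherNormInt.sub f) f) :
      MvPolynomial (Fin (n + 1)) k →ₐ[k] MvPolynomial (Fin (n + 1)) k)
    let inc : MvPolynomial (Fin n) k →ₐ[k] MvPolynomial (Fin (n + 1)) k := rename Fin.castSucc
    set q' := q.comap Φ
    haveI : q'.IsPrime := Ideal.comap_isPrime Φ q
    have hlast : (X (Fin.last n) : MvPolynomial (Fin (n + 1)) k) ∈ q' := by
      show Φ (X (Fin.last n)) ∈ q
      simpa [Φ] using fq
    obtain ⟨r, hr, φ'', hfin'', hcomap''⟩ := ih (q'.comap inc)
    let φ' : MvPolynomial (Fin (n + 1)) k →ₐ[k] MvPolynomial (Fin (n + 1)) k :=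
      aeval (Fin.snoc (fun i => inc (φ'' (X i))) (X (Fin.last n)))
    have hφ'inc : ∀ b, φ' (inc b) = inc (φ'' b) := fun b => by
      have : φ'.comp inc = inc.comp φ'' := MvPolynomial.algHom_ext fun i => by simp [φ', inc]
      exact AlgHom.congr_fun this b
    have hfin' : φ'.toRingHom.Finite := by
      refine finite_of_isIntegral_X φ' fun j => ?_
      induction j using Fin.lastCases with
      | last => exact ⟨Polynomial.X - Polynomial.C (X (Fin.last n)), Polynomial.monic_X_sub_C _, by simp [φ']⟩
      | cast i =>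
        obtain ⟨p, hp, he⟩ := hfin''.to_isIntegral (X i)
        refine ⟨p.map inc.toRingHom, hp.map _, ?_⟩
        rw [Polynomial.eval₂_map, show φ'.toRingHom.comp inc.toRingHom = inc.toRingHom.comp φ''.toRingHom from
          RingHom.ext hφ'inc]
        have := congrArg inc.toRingHom he
        rw [Polynomial.hom_eval₂, map_zero] at this
        simpa [inc] using this
    refine ⟨r, hr.trans (Nat.le_succ n), Φ.comp φ', (step f q fne fq).comp hfin', ?_⟩
    have e : q.comap (Φ.comp φ') = q'.comap φ' := rfl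
    rw [e]
    have hincmem : ∀ b ∈ tailIdeal k n r, inc b ∈ tailIdeal k (n + 1) r := by
      intro b hb
      have : (tailIdeal k n r).map inc ≤ tailIdeal k (n + 1) r := by
        rw [tailIdeal, Ideal.map_span]
        refine Ideal.span_le.mpr ?_
        rintro _ ⟨_, ⟨i, rfl⟩, rfl⟩
        exact Ideal.subset_span ⟨⟨Fin.castSucc i.1, i.2⟩, by simp [inc]⟩
      exact this (Ideal.mem_map_of_mem _ hb)
    have hlast' : (X (Fin.last n) : MvPolynomial (Fin (n + 1)) k) ∈ tailIdeal k (n + 1) r :=
      Ideal.subset_span ⟨⟨Fin.last n, by simpa using hr⟩, rfl⟩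
    refine le_antisymm (fun a ha => ?_) ?_
    · let π : MvPolynomial (Fin (n + 1)) k →ₐ[k] MvPolynomial (Fin n) k :=
        aeval (Fin.snoc (fun i => X i) 0)
      have hdiff : a - inc (π a) ∈ Ideal.span {(X (Fin.last n) : MvPolynomial (Fin (n + 1)) k)} := by
        rw [← Ideal.Quotient.eq_zero_iff_mem, map_sub, sub_eq_zero]
        have : (Ideal.Quotient.mkₐ k (Ideal.span {(X (Fin.last n) : MvPolynomial (Fin (n + 1)) k)})) =
            (Ideal.Quotient.mkₐ k _).comp (inc.comp π) := by
          refine MvPolynomial.algHom_ext fun j => ?_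
          induction j using Fin.lastCases with
          | last =>
            simp only [π, inc, AlgHom.comp_apply, aeval_X, Fin.snoc_last, map_zero]
            exact Ideal.Quotient.eq_zero_iff_mem.mpr (Ideal.mem_span_singleton_self _)
          | cast i => simp [π, inc]
        exact AlgHom.congr_fun this a
      have h1 : inc (π a) ∈ q'.comap φ' := by
        have h2 : a - inc (π a) ∈ q'.comap φ' := by
          refine (Ideal.span_le.mpr ?_) hdiff
          simp only [Set.singleton_subset_iff, SetLike.mem_coe, Ideal.mem_comap]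
          simpa [φ'] using hlast
        simpa using (q'.comap φ').sub_mem ha h2
      have h3 : π a ∈ (q'.comap inc).comap φ'' := by
        show inc (φ'' (π a)) ∈ q'
        rw [← hφ'inc]
        exact h1
      rw [hcomap''] at h3
      have h4 := (tailIdeal k (n + 1) r).add_mem
        ((Ideal.span_le.mpr (Set.singleton_subset_iff.mpr hlast')) hdiff) (hincmem _ h3)
      rwa [sub_add_cancel] at h4
    · refine Ideal.span_le.mpr ?_
      rintro _ ⟨⟨j, hj⟩, rfl⟩
      show φ' (X j) ∈ q'
      induction j using Fin.lastCases with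
      | last => simpa [φ'] using hlast
      | cast i =>
        have : (X i : MvPolynomial (Fin n) k) ∈ (q'.comap inc).comap φ'' := by
          rw [hcomap'']; exact Ideal.subset_span ⟨⟨i, by simpa using hj⟩, rfl⟩
        simpa [φ'] using this

end Groth.Agent.RefinedNN

namespace Groth.Agent.RefinedNN

theorem ringKrullDim_quot_tailIdeal (k : Type u) [Field k] (n r : ℕ) (hr : r ≤ n) :
    ringKrullDim (MvPolynomial (Fin n) k ⧸ tailIdeal k n r) = r := by
  let π : MvPolynomial (Fin n) k →ₐ[k] MvPolynomial (Fin r) k :=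
    aeval fun i => if h : (i : ℕ) < r then X ⟨i, h⟩ else 0
  let inc : MvPolynomial (Fin r) k →ₐ[k] MvPolynomial (Fin n) k := rename (Fin.castLE hr)
  have hpi : π.comp inc = AlgHom.id k _ := MvPolynomial.algHom_ext fun i => by simp [π, inc]
  have hker : RingHom.ker π = tailIdeal k n r := by
    refine le_antisymm (fun a ha => ?_) (Ideal.span_le.mpr ?_)
    · have h : (Ideal.Quotient.mkₐ k (tailIdeal k n r)) = (Ideal.Quotient.mkₐ k _).comp (inc.comp π) := by
        refine MvPolynomial.algHom_ext fun j => ?_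
        by_cases hj : (j : ℕ) < r
        · simp [π, inc, hj]
        · simp only [π, AlgHom.comp_apply, aeval_X, dif_neg hj, map_zero]
          exact Ideal.Quotient.eq_zero_iff_mem.mpr (Ideal.subset_span ⟨⟨j, not_lt.mp hj⟩, rfl⟩)
      have := AlgHom.congr_fun h a
      simp only [AlgHom.comp_apply, RingHom.mem_ker.mp ha, map_zero] at this
      exact Ideal.Quotient.eq_zero_iff_mem.mp this
    · rintro _ ⟨⟨j, hj⟩, rfl⟩
      simp [π, not_lt.mpr hj]
  have hsurj : Function.Surjective π := fun b => ⟨inc b, AlgHom.congr_fun hpi b⟩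
  rw [← hker, ringKrullDim_eq_of_ringEquiv (Ideal.quotientKerAlgEquivOfSurjective hsurj).toRingEquiv,
    MvPolynomial.ringKrullDim_of_isNoetherianRing, ringKrullDim_eq_zero_of_field]
  simp

end Groth.Agent.RefinedNN
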